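import Cfsg.Agent.SporFischer.Fi22Slice.Basic

/-! Kernel checks: covers, first part. -/

set_option autoImplicit false
set_option maxRecDepth 100000
set_option exponentiation.threshold 10000

namespace CfsgLib.SporFischer.O7Slice

theorem nRoot_ok : coverOK7 seven [3, 52, 183, 397, 483, 755] nRootS (nbC 2) nRootW = true := by decide +kernel

theorem n3_ok : coverOK7 (seven ++ [3]) [52] n3S (nbC 2) n3W = true := by decide +kernel

theorem n183_ok : coverOK7 (seven ++ [183]) [0, 4, 192] n183S farC n183W = true := by decide +kernel

theorem n397_3_ok : coverOK7 (seven ++ [397, 3]) [52] n397_3S (nbC 2) n397_3W = true := by decide +kernel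

end CfsgLib.SporFischer.O7Slice
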