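import Cfsg.Agent.SporFischer.Fi22Slice.Basic

/-! Kernel checks: covers, second part and the closures. -/

set_option autoImplicit false
set_option maxRecDepth 100000
set_option exponentiation.threshold 10000

namespace CfsgLib.SporFischer.O7Slice

theorem n183_0_ok : coverOK7 (seven ++ [183, 0]) [8, 301] n183_0S (nbC 16) n183_0W = true := by decide +kernel

theorem n397_ok : coverOK7 (seven ++ [397]) [3, 52, 483] n397S (nbC 2) n397W = true := by decide +kernel

theorem n52_ok : coverOK7 (seven ++ [52]) [0, 4] n52S farC n52W = true := by decide +kernel

theorem o3_52_ok : overOK (seven ++ [3, 52]) 2 o3_52S o3_52W = true := by decide +kernel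

theorem o183_0_8_ok : overOK (seven ++ [183, 0, 8]) 2 o183_0_8S o183_0_8W = true := by decide +kernel

theorem o183_0_301_ok : overOK (seven ++ [183, 0, 301]) 2 o183_0_301S o183_0_301W = true := by decide +kernel

theorem o183_4_ok : overOK (seven ++ [183, 4]) 2 o183_4S o183_4W = true := by decide +kernel

theorem o183_192_ok : overOK (seven ++ [183, 192]) 2 o183_192S o183_192W = true := by decide +kernel

theorem o397_3_52_ok : overOK (seven ++ [397, 3, 52]) 2 o397_3_52S o397_3_52W = true := by decide +kernel

theorem o397_52_ok : overOK (seven ++ [397, 52]) 2 o397_52S o397_52W = true := by decide +kernel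

theorem o397_483_ok : overOK (seven ++ [397, 483]) 2 o397_483S o397_483W = true := by decide +kernel

theorem o483_ok : overOK (seven ++ [483]) 2 o483S o483W = true := by decide +kernel

theorem o755_ok : overOK (seven ++ [755]) 2 o755S o755W = true := by decide +kernel

theorem o52_0_ok : overOK (seven ++ [52, 0]) 2 o52_0S o52_0W = true := by decide +kernel

theorem o52_4_0_ok : overOK (seven ++ [52, 4, 0]) 2 o52_4_0S o52_4_0W = true := by decide +kernel

end CfsgLib.SporFischer.O7Slice
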