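import Cfsg.Agent.SporFischer.Fi22Slice.Basic
import Cfsg.Agent.SporFischer.Fi22Slice.Geometry

/-! Kernel checks: the surviving set. -/

set_option autoImplicit false
set_option maxRecDepth 100000
set_option exponentiation.threshold 10000

namespace CfsgLib.SporFischer.O7Slice

theorem nLast_ok : coverOK7 (seven ++ [52, 4]) [0] nLastS allC pts351 = true := by decide +kernel

end CfsgLib.SporFischer.O7Slice
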