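import Cfsg.Agent.Fi22Out.Fixed
import Cfsg.Agent.SporFischer.Fi22Slice.Data

/-!
Checkers for sets of members of `Cfsg.Spor.Fi22` closed under conjugation in which every member has 126 neighbours.
-/

set_option autoImplicit false
set_option maxRecDepth 100000

namespace CfsgLib.SporFischer.O7Slice

open CfsgLib.CosetEnum CfsgLib.Fi22Out

/-- The bit set of a list. -/
noncomputable def bitsOf (L : List ℕ) : ℕ := L.foldl (fun K p => Nat.lor K (2 ^ p)) 0

/-- Adding the images of points already present under the moves `gens`. -/
noncomputable def spread (gens : List ℕ) : ℕ → List (ℕ × ℕ) → Option ℕ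
  | K, [] => some K
  | K, (g, q) :: r =>
    bif gens.elem g && bit K q && Nat.blt q 3510 then force (mv g q) fun m => force (Nat.lor K (2 ^ m)) fun K' => spread gens K' r
    else none

/-- A closure containing `r` and 127 of its neighbours. -/
noncomputable def overOK (gens : List ℕ) (r : ℕ) (steps : List (ℕ × ℕ)) (w : List ℕ) : Bool :=
  match spread gens (bitsOf gens) steps with
  | none => false
  | some K => gens.elem r && Nat.beq w.length 127 && Nat.beq w.dedup.length w.length &&
      w.all fun y => bit K y && Nat.blt y 3510 && !Nat.beq y r && com r y

/-- Every candidate is uncovered on the list, or is moved to a representative. -/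
noncomputable def coverOK7 (gens reps : List ℕ) (steps : List (ℕ × ℕ)) (cand : ℕ → Bool) (W : List ℕ) : Bool :=
  match spread gens (bitsOf reps) steps with
  | none => false
  | some K => allR (fun i => bif Nat.blt i 3510 then (bit K i || (!cand i || W.elem i)) else true) 12 0

/-- The neighbours of `r`. -/
noncomputable def nbC (r i : ℕ) : Bool := !Nat.beq i r && com r i

/-- The non-neighbours of `b`. -/
noncomputable def farC (i : ℕ) : Bool := !com 2 i

/-- All points. -/
def allC (_ : ℕ) : Bool := true

end CfsgLib.SporFischer.O7Slice
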