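import Cfsg.Agent.SporFischer.Fi22Slice.Basic
import Cfsg.Agent.SporFischer.Fi22Slice.Geometry

/-! Kernel checks: the 351 points and their vectors. -/

set_option autoImplicit false
set_option maxRecDepth 100000
set_option exponentiation.threshold 10000

namespace CfsgLib.SporFischer.O7Slice

open CfsgLib.CosetEnum CfsgLib.Fi22Out

noncomputable section

/-- A point by its number. -/
def pAt (i : ℕ) : ℕ := ext ptsT i

/-- A vector by its number. -/
def vAt (i : ℕ) : ℕ := ext vecT i

/-- The number of the point `i` moved by the seed `j`. -/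
def mvAt (i j : ℕ) : ℕ := ext mvT (9 * i + j)

/-- A digit in base three. -/
def d3 (c k : ℕ) : ℕ := c / 3 ^ k % 3

/-- The scalar product in base three. -/
def dot7 (c d : ℕ) : ℕ :=
  (d3 c 0 * d3 d 0 + d3 c 1 * d3 d 1 + d3 c 2 * d3 d 2 + d3 c 3 * d3 d 3 + d3 c 4 * d3 d 4 + d3 c 5 * d3 d 5 +
    d3 c 6 * d3 d 6) % 3

/-- The code of the negative. -/
def neg7 (c : ℕ) : ℕ :=
  (3 - d3 c 0) % 3 + (3 - d3 c 1) % 3 * 3 + (3 - d3 c 2) % 3 * 9 + (3 - d3 c 3) % 3 * 27 +
    (3 - d3 c 4) % 3 * 81 + (3 - d3 c 5) % 3 * 243 + (3 - d3 c 6) % 3 * 729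

theorem pts_ok : pts351.length = 351 ∧ allR (fun i => bif Nat.blt i 351 then
    Nat.beq (pts351.getD i 0) (pAt i) && Nat.blt (pAt i) 3510 && Nat.beq (pts351.idxOf (pAt i)) i else true) 9 0 =
      true ∧ (List.range 9).map pAt = seven ++ [52, 4] := by
  decide +kernel

theorem mv_ok : allR (fun i => bif Nat.blt i 351 then (List.range 9).all fun j =>
    Nat.blt (mvAt i j) 351 && Nat.beq (mv (pAt j) (pAt i)) (pAt (mvAt i j)) else true) 9 0 = true := by
  decide +kernel

theorem reach_ok : (List.range reach351.length).all (fun k => match reach351.getD k (0, 0) with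
    | (j, i) => Nat.blt i (9 + k) && Nat.blt j 9 && Nat.beq (mvAt i j) (9 + k)) = true ∧ reach351.length = 342 := by
  decide +kernel

theorem refl_ok : allR (fun i => bif Nat.blt i 351 then (List.range 9).all fun j =>
    let v := vAt i
    let u := vAt j
    let w := vAt (mvAt i j)
    ((List.range 7).all fun k => Nat.beq ((d3 v k + dot7 u v * d3 u k) % 3) (d3 w k)) ||
      ((List.range 7).all fun k => Nat.beq ((d3 v k + dot7 u v * d3 u k + d3 w k) % 3) 0) else true) 9 0 = true := by
  decide +kernel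

theorem vecs_ok : allR (fun i => bif Nat.blt i 351 then
    Nat.blt (vAt i) 2187 && Nat.beq (dot7 (vAt i) (vAt i)) 1 && Nat.beq (ext lutT (vAt i)) i &&
      Nat.beq (ext lutT (neg7 (vAt i))) i else true) 9 0 = true := by
  decide +kernel

theorem vecs_cover : allR (fun c => bif Nat.blt c 2187 then (!Nat.beq (dot7 c c) 1 ||
    (Nat.blt (ext lutT c) 351 && (Nat.beq (vAt (ext lutT c)) c || Nat.beq (neg7 (vAt (ext lutT c))) c))) else true)
      12 0 = true := by
  decide +kernel

end

end CfsgLib.SporFischer.O7Slice
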