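import Cfsg.Agent.SporFischer.Fi22Slice.ChecksG
import Cfsg.Agent.SporFischer.SliceReflect

/-!
# The reflections of norm one in dimension seven, by numbers
-/

set_option autoImplicit false
set_option linter.unusedSectionVars false
set_option maxRecDepth 100000

namespace CfsgLib.SporFischer.O7Slice

open Cfsg CfsgLib.Transpositions CfsgLib.Spinor
open CfsgLib.CosetEnum CfsgLib.Fi22Out

noncomputable section

theorem blt_true {a b : ℕ} (h : a < b) : Nat.blt a b = true := by simpa using h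

/-- The number of the point `i` moved by the seed `j`. -/
def mvF (j : Fin 9) (i : Fin 351) : Fin 351 := ⟨mvAt i j, by
  have h := allR_spec 9 0 mv_ok i (Nat.zero_le _) (by omega)
  rw [show Nat.blt (i : ℕ) 351 = true from blt_true i.2, cond_true, List.all_eq_true] at h
  have h' := h j (List.mem_range.2 j.2)
  simp only [Bool.and_eq_true, Nat.blt_eq] at h'
  exact h'.1⟩

/-- The number of a seed. -/
def seedF (j : Fin 9) : Fin 351 := ⟨j, j.2.trans (by norm_num)⟩

theorem mvF_point (j : Fin 9) (i : Fin 351) : mv (pAt j) (pAt i) = pAt (mvF j i) := by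
  have h := allR_spec 9 0 mv_ok i (Nat.zero_le _) (by omega)
  rw [show Nat.blt (i : ℕ) 351 = true from blt_true i.2, cond_true, List.all_eq_true] at h
  have h' := h j (List.mem_range.2 j.2)
  simp only [Bool.and_eq_true, Nat.blt_eq, Nat.beq_eq] at h'
  exact h'.2

/-- Everything is generated by the seeds. -/
theorem gen_of_moves9 {A : Type*} [Group A] (a : Fin 351 → A)
    (hA : ∀ j i, a (seedF j) * a i * (a (seedF j))⁻¹ = a (mvF j i))
    (gen : Subgroup.closure (Set.range a) = ⊤) :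
    Subgroup.closure (Set.range fun j => a (seedF j)) = ⊤ := by
  rw [eq_top_iff, ← gen, Subgroup.closure_le]
  rintro _ ⟨i, rfl⟩
  suffices h : ∀ n (hn : n < 351), a ⟨n, hn⟩ ∈ Subgroup.closure (Set.range fun j => a (seedF j)) from h i i.2
  intro n
  induction n using Nat.strong_induction_on with
  | _ n ih =>
    intro hn
    rcases lt_or_ge n 9 with h9 | h9
    · exact Subgroup.subset_closure ⟨⟨n, h9⟩, rfl⟩
    · have h := List.all_eq_true.1 reach_ok.1 (n - 9) (List.mem_range.2 (by rw [reach_ok.2]; omega))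
      rcases hop : reach351.getD (n - 9) (0, 0) with ⟨j, i⟩
      simp only [hop, Bool.and_eq_true, Nat.blt_eq, Nat.beq_eq] at h
      obtain ⟨⟨hi, hj⟩, hij⟩ := h
      have e : mvF ⟨j, hj⟩ ⟨i, by omega⟩ = ⟨n, hn⟩ := Fin.ext (by
        show mvAt i j = n
        rw [hij]; omega)
      rw [← e, ← hA]
      exact Subgroup.mul_mem _ (Subgroup.mul_mem _ (Subgroup.subset_closure ⟨_, rfl⟩) (ih i (by omega) (by omega)))
        (Subgroup.inv_mem _ (Subgroup.subset_closure ⟨_, rfl⟩))

/-- The sum of seven squares. -/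
def sumQ7 : QuadraticForm (ZMod 3) (Fin 7 → ZMod 3) :=
  QuadraticMap.weightedSumSquares (ZMod 3) (fun _ : Fin 7 => (1 : ZMod 3))

theorem sumQ7_apply (v : Fin 7 → ZMod 3) : sumQ7 v = ∑ k, v k * v k := by
  simp [sumQ7, QuadraticMap.weightedSumSquares_apply]

theorem polar_sumQ7 (u v : Fin 7 → ZMod 3) : QuadraticMap.polar (⇑sumQ7) u v = 2 * ∑ k, u k * v k := by
  simp only [QuadraticMap.polar, sumQ7_apply, Finset.mul_sum, ← Finset.sum_sub_distrib, Pi.add_apply]
  exact Finset.sum_congr rfl fun k _ => by ring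

theorem sumQ7_nondegenerate : (QuadraticMap.polarBilin sumQ7).Nondegenerate := by
  have key : ∀ x : Fin 7 → ZMod 3, (∀ y, QuadraticMap.polar (⇑sumQ7) x y = 0) → x = 0 := fun x h => by
    funext k
    have e := h (Pi.single k 1)
    rw [polar_sumQ7, Finset.sum_eq_single k (fun l _ hl => by rw [Pi.single_eq_of_ne hl, mul_zero])
      (fun hk => absurd (Finset.mem_univ k) hk), Pi.single_eq_same, mul_one] at e
    exact (mul_eq_zero.1 e).resolve_left two_ne_zero_zmod_three
  exact ⟨fun x h => key x fun y => h y, fun y h => key y fun x => by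
    rw [QuadraticMap.polar_comm]; exact h x⟩

theorem polarGramDet_sumQ7 : polarGramDet (⇑sumQ7) = -1 := by
  have e : (Matrix.of fun i j : Fin 7 => QuadraticMap.polar (⇑sumQ7) (Pi.single i 1) (Pi.single j 1)) =
      (2 : ZMod 3) • (1 : Matrix (Fin 7) (Fin 7) (ZMod 3)) := by
    ext i j
    rw [Matrix.of_apply, polar_sumQ7, Matrix.smul_apply, smul_eq_mul, Matrix.one_apply]
    simp [Pi.single_apply, eq_comm]
  rw [polarGramDet, e, Matrix.det_smul, Matrix.det_one, Fintype.card_fin, mul_one]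
  decide

/-- The vector with a code. -/
def vec7 (c : ℕ) : Fin 7 → ZMod 3 := fun k => (d3 c k : ZMod 3)

theorem d3_lt (c k : ℕ) : d3 c k < 3 := Nat.mod_lt _ (by norm_num)

theorem sum_vec7 (c d : ℕ) : ∑ k, vec7 c k * vec7 d k = (dot7 c d : ZMod 3) := by
  simp [vec7, dot7, Fin.sum_univ_seven, ZMod.natCast_mod]

/-- The code of a vector. -/
def code7 (v : Fin 7 → ZMod 3) : ℕ :=
  (v 0).val + (v 1).val * 3 + (v 2).val * 9 + (v 3).val * 27 + (v 4).val * 81 + (v 5).val * 243 + (v 6).val * 729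

theorem code7_lt (v : Fin 7 → ZMod 3) : code7 v < 2187 := by
  have := fun k => ZMod.val_lt (v k)
  have h0 := this 0; have h1 := this 1; have h2 := this 2; have h3 := this 3
  have h4 := this 4; have h5 := this 5; have h6 := this 6
  simp only [code7]
  omega

theorem vec7_code7 (v : Fin 7 → ZMod 3) : vec7 (code7 v) = v := by
  funext k
  have := fun k => ZMod.val_lt (v k)
  have h0 := this 0; have h1 := this 1; have h2 := this 2; have h3 := this 3
  have h4 := this 4; have h5 := this 5; have h6 := this 6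
  rw [vec7, ← ZMod.natCast_zmod_val (v k)]
  congr 1
  simp only [d3, code7]
  fin_cases k <;> simp only [Fin.zero_eta, Fin.mk_one, Fin.reduceFinMk] <;> norm_num <;> omega

theorem code7_vec7 {c : ℕ} (hc : c < 2187) : code7 (vec7 c) = c := by
  simp only [code7, vec7, ZMod.val_natCast, d3, show ((0 : Fin 7) : ℕ) = 0 from rfl, show ((1 : Fin 7) : ℕ) = 1 from rfl,
    show ((2 : Fin 7) : ℕ) = 2 from rfl, show ((3 : Fin 7) : ℕ) = 3 from rfl, show ((4 : Fin 7) : ℕ) = 4 from rfl,
    show ((5 : Fin 7) : ℕ) = 5 from rfl, show ((6 : Fin 7) : ℕ) = 6 from rfl]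
  norm_num
  omega

theorem vec7_neg7 (c : ℕ) : vec7 (neg7 c) = -vec7 c := by
  funext k
  have h := fun k => d3_lt c k
  have h0 := h 0; have h1 := h 1; have h2 := h 2; have h3 := h 3; have h4 := h 4; have h5 := h 5; have h6 := h 6
  have e : (d3 (neg7 c) k + d3 c k) % 3 = 0 := by
    show (neg7 c / 3 ^ (k : ℕ) % 3 + d3 c k) % 3 = 0
    simp only [neg7]
    fin_cases k <;> simp only [Fin.zero_eta, Fin.mk_one, Fin.reduceFinMk] <;> norm_num <;> omega
  rw [Pi.neg_apply, eq_neg_iff_add_eq_zero]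
  show ((d3 (neg7 c) k : ℕ) : ZMod 3) + ((d3 c k : ℕ) : ZMod 3) = 0
  rw [← Nat.cast_add, ← ZMod.natCast_mod, e, Nat.cast_zero]

/-- The vector at a point. -/
def vecF (i : Fin 351) : Fin 7 → ZMod 3 := vec7 (vAt i)

theorem vecF_spec (i : Fin 351) : vAt i < 2187 ∧ sumQ7 (vecF i) = 1 ∧ ext lutT (vAt i) = i ∧
    ext lutT (neg7 (vAt i)) = i := by
  have h := allR_spec 9 0 vecs_ok i (Nat.zero_le _) (by omega)
  rw [show Nat.blt (i : ℕ) 351 = true from blt_true i.2, cond_true] at h
  simp only [Bool.and_eq_true, Nat.blt_eq, Nat.beq_eq] at h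
  obtain ⟨⟨⟨h1, h2⟩, h3⟩, h4⟩ := h
  exact ⟨h1, by rw [sumQ7_apply, vecF, sum_vec7, h2, Nat.cast_one], h3, h4⟩

theorem neg7_lt (c : ℕ) : neg7 c < 2187 := by
  simp only [neg7]
  omega

/-- The reflection at a point. -/
def reflF (i : Fin 351) : ↥(reflectionSubgroup (⇑sumQ7) (1 : ZMod 3)) :=
  classRefl one_ne_zero (vecF i) (vecF_spec i).2.1

theorem reflF_injective : Function.Injective reflF := by
  intro i j h
  obtain ⟨hi, hqi, li, li'⟩ := vecF_spec i
  obtain ⟨hj, hqj, lj, lj'⟩ := vecF_spec j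
  have hcm : Commute (reflF i) (reflF j) := by rw [h]
  rcases (commute_classRefl_iff one_ne_zero hqi hqj).1 hcm with h0 | h0
  · exact absurd h (classRefl_ne one_ne_zero hqi hqj h0)
  rcases h0 with h0 | h0
  · have := congrArg code7 h0
    rw [vecF, vecF, code7_vec7 hi, code7_vec7 hj] at this
    exact Fin.ext (by rw [← li, ← lj, this])
  · have := congrArg code7 h0
    rw [vecF, vecF, ← vec7_neg7, code7_vec7 (neg7_lt _), code7_vec7 hj] at this
    exact Fin.ext (by rw [← li', ← this, lj])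

theorem refl_vecF (j : Fin 9) (i : Fin 351) :
    refl sumQ7 (vecF (seedF j)) (vecF i) = vecF (mvF j i) ∨
      refl sumQ7 (vecF (seedF j)) (vecF i) = -vecF (mvF j i) := by
  have h := allR_spec 9 0 refl_ok i (Nat.zero_le _) (by omega)
  rw [show Nat.blt (i : ℕ) 351 = true from blt_true i.2, cond_true, List.all_eq_true] at h
  have h' := h j (List.mem_range.2 j.2)
  simp only [Bool.or_eq_true, List.all_eq_true, List.mem_range, Nat.beq_eq] at h'
  set u := vAt j with hu
  set v := vAt i with hv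
  have hcoord : ∀ k : Fin 7, refl sumQ7 (vecF (seedF j)) (vecF i) k =
      (((d3 v k + dot7 u v * d3 u k) % 3 : ℕ) : ZMod 3) := by
    intro k
    rw [refl_apply, (vecF_spec _).2.1, inv_one, one_mul, polar_sumQ7, Pi.sub_apply, Pi.smul_apply, smul_eq_mul,
      ZMod.natCast_mod]
    show vec7 v k - 2 * (∑ l, vec7 u l * vec7 v l) * vec7 u k = _
    rw [sum_vec7, vec7, vec7, Nat.cast_add, Nat.cast_mul]
    have h3 : (3 : ZMod 3) = 0 := rfl
    linear_combination -((dot7 u v : ZMod 3) * (d3 u k : ZMod 3)) * h3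
  rcases h' with h' | h'
  · refine Or.inl (funext fun k => ?_)
    rw [hcoord, h' k k.2]
    rfl
  · refine Or.inr (funext fun k => ?_)
    rw [hcoord, Pi.neg_apply, eq_neg_iff_add_eq_zero]
    show _ + ((d3 (vAt (mvAt i j)) k : ℕ) : ZMod 3) = 0
    rw [ZMod.natCast_mod, ← Nat.cast_add, ← ZMod.natCast_mod, h' k k.2, Nat.cast_zero]

theorem reflF_conj (j : Fin 9) (i : Fin 351) :
    reflF (seedF j) * reflF i * (reflF (seedF j))⁻¹ = reflF (mvF j i) := by
  have hq : sumQ7 (refl sumQ7 (vecF (seedF j)) (vecF i)) = 1 := by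
    rw [quad_refl sumQ7 (by rw [(vecF_spec _).2.1]; exact one_ne_zero), (vecF_spec _).2.1]
  have e : reflF (seedF j) * reflF i * (reflF (seedF j))⁻¹ = classRefl one_ne_zero _ hq := by
    refine Subtype.ext ((conj_reflIso sumQ7 _ (vecF i) (by rw [(vecF_spec _).2.1]; exact one_ne_zero)).trans ?_)
    exact mat_ext sumQ7 (congrArg (reflectionMatrix (⇑sumQ7)) (reflectionMatrix_mulVec sumQ7 _ _))
  rw [e]
  exact classRefl_eq_of_polar_ne one_ne_zero (vecF_spec _).2.1 hq (refl_vecF j i)

theorem reflF_generate : Subgroup.closure (Set.range reflF) = ⊤ := by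
  refine (Subgroup.map_injective (reflectionSubgroup (⇑sumQ7) (1 : ZMod 3)).subtype_injective) ?_
  rw [MonoidHom.map_closure, ← MonoidHom.range_eq_map, Subgroup.range_subtype]
  refine congrArg Subgroup.closure (Set.Subset.antisymm ?_ ?_)
  · rintro _ ⟨_, ⟨i, rfl⟩, rfl⟩
    exact reflIso_mem one_ne_zero (vecF_spec i).2.1
  intro g hg
  obtain ⟨v, hv, rfl⟩ := exists_eq_reflIso one_ne_zero hg
  obtain ⟨c, hc, rfl⟩ : ∃ c < 2187, vec7 c = v := ⟨_, code7_lt v, vec7_code7 v⟩
  have hd : dot7 c c = 1 := by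
    have e : ((dot7 c c : ℕ) : ZMod 3) = ((1 : ℕ) : ZMod 3) := by
      rw [← sum_vec7, ← sumQ7_apply, hv, Nat.cast_one]
    have := (ZMod.natCast_eq_natCast_iff' _ _ _).1 e
    rwa [Nat.mod_eq_of_lt (show dot7 c c < 3 from Nat.mod_lt _ (by norm_num))] at this
  have h := allR_spec 12 0 vecs_cover c (Nat.zero_le _) (by omega)
  rw [show Nat.blt c 2187 = true from blt_true hc, cond_true] at h
  simp only [hd, Bool.or_eq_true, Bool.and_eq_true, Nat.blt_eq, Nat.beq_eq, Nat.beq_refl, Bool.not_true,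
    Bool.false_eq_true, false_or] at h
  obtain ⟨hi, hw⟩ := h
  refine ⟨reflF ⟨_, hi⟩, ⟨_, rfl⟩, ?_⟩
  refine congrArg Subtype.val (classRefl_eq_of_polar_ne one_ne_zero hv (vecF_spec ⟨_, hi⟩).2.1 ?_)
  rcases hw with hw | hw
  · exact Or.inl (congrArg vec7 hw)
  · exact Or.inr (by
      rw [← vec7_neg7, ← congrArg (fun d => vec7 (neg7 d)) hw]
      simp only [vec7_neg7, neg_neg]
      rfl)

end

end CfsgLib.SporFischer.O7Slice
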